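import Cfsg.Agent.Lib.Spor.UFourType.Uniq.Relators
import Cfsg.Agent.Lib.Spor.TC.Word
import Cfsg.Agent.Lib.Spor.TC.Strict
import Cfsg.Agent.Lib.Spor.UFourThreeSeven
import Cfsg.Agent.Lib.SU.CenterCard

/-!
# Elements of `PSU₄(9)` satisfying the relators
-/

set_option autoImplicit false
set_option linter.style.haveILetI false

namespace CfsgLib.Spor.UFourType

open CfsgLib.Spor.TC CfsgLib.Spor.UFourThreeSeven CfsgLib.Char.SU33 Matrix

/-- The number with given digits in base sixteen. -/
def nibbles (L : List ℕ) : ℕ := L.foldr (fun a r => a + 16 * r) 0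

theorem nibbles_get : ∀ (L : List ℕ), (∀ a ∈ L, a < 16) → ∀ k, nibbles L / 16 ^ k % 16 = L.getD k 0 := by
  intro L
  induction L with
  | nil => intro _ k; simp [nibbles]
  | cons a L ih =>
    intro h k
    have ha := h a List.mem_cons_self
    show (a + 16 * nibbles L) / 16 ^ k % 16 = _
    cases k with
    | zero => simp; omega
    | succ k =>
      rw [pow_succ', ← Nat.div_div_eq_div_mul, show (a + 16 * nibbles L) / 16 = nibbles L by omega,
        ih fun c hc => h c (List.mem_cons_of_mem _ hc)]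
      rfl

/-- A matrix of codes as a number. -/
def pack (A : Fin 4 → Fin 4 → ℕ) : ℕ :=
  nibbles [A 0 0, A 0 1, A 0 2, A 0 3, A 1 0, A 1 1, A 1 2, A 1 3,
    A 2 0, A 2 1, A 2 2, A 2 3, A 3 0, A 3 1, A 3 2, A 3 3]

/-- The matrix of a number. -/
def unpack (n : ℕ) (i j : Fin 4) : ℕ := n / 16 ^ (4 * i.val + j.val) % 16

theorem unpack_pack {A : Fin 4 → Fin 4 → ℕ} (hA : UFourThreeSeven.Small A) : unpack (pack A) = A := by
  have h : ∀ a b, A a b < 16 := fun a b => lt_of_lt_of_le (hA a b) (by norm_num)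
  funext i j
  rw [unpack, pack, nibbles_get _ (by simp [h])]
  fin_cases i <;> fin_cases j <;> rfl

/-- The generators. -/
def psuGen : ℕ → Fin 4 → Fin 4 → ℕ
  | 0 => ofRows [[0, 0, 0, 1], [0, 0, 1, 0], [0, 1, 0, 0], [1, 0, 0, 0]]
  | 1 => ofRows [[0, 0, 0, 1], [0, 0, 3, 0], [0, 3, 0, 0], [2, 0, 0, 0]]
  | 2 => ofRows [[0, 0, 4, 4], [0, 0, 5, 7], [7, 8, 0, 0], [7, 4, 0, 0]]
  | 3 => ofRows [[0, 0, 4, 4], [0, 0, 4, 8], [7, 7, 0, 0], [7, 5, 0, 0]]
  | 4 => ofRows [[1, 0, 0, 0], [0, 0, 6, 0], [0, 3, 0, 0], [0, 0, 0, 2]]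
  | _ => UFourThreeSeven.one

theorem psuGen_su : ∀ x, InSU (psuGen x) := by
  intro x
  rcases x with _ | _ | _ | _ | _ | x
  all_goals unfold InSU UFourThreeSeven.Small
  all_goals first
    | decide +kernel
    | (show (∀ i j, UFourThreeSeven.one i j < 9) ∧ detC UFourThreeSeven.one = 1 ∧
          ∀ a b, hermC UFourThreeSeven.one a b = if a = b then 1 else 0
       decide +kernel)

/-- A scalar matrix. -/
def scalM (s : ℕ) : Fin 4 → Fin 4 → ℕ := fun i j => if i = j then s else 0

theorem scalM_su : ∀ s ∈ [1, 2, 3, 6], InSU (scalM s) := by unfold InSU UFourThreeSeven.Small; decide +kernel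

/-- The matrix of a word, evaluated step by step. -/
noncomputable def wordMat (w : List ℕ) : ℕ :=
  w.foldl (fun n x => strict n fun n => pack (mulC (unpack n) (psuGen x))) (pack UFourThreeSeven.one)

theorem full_scalar : ∀ w ∈ fullRels, wordMat w ∈ [1, 2, 3, 6].map (fun s => pack (scalM s)) := by
  decide +kernel

theorem squares_scalar : ∀ x < 5, wordMat [x, x] ∈ [1, 2, 3, 6].map (fun s => pack (scalM s)) := by
  decide +kernel

/-- A word for the central involution. -/
def zWord : List ℕ := [0, 2, 0, 2, 0, 2]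

theorem zWord_moves : mulC (unpack (wordMat zWord)) (psuGen 4) ≠ mulC (psuGen 4) (unpack (wordMat zWord)) := by
  decide +kernel

variable {F : Type*} [Field F] (R : Root F)

/-- The elements of the group. -/
noncomputable def psuElt (x : ℕ) : ↥(Cfsg.SU 4 F 3) := elem R (psuGen x) (psuGen_su x)

theorem one_small : UFourThreeSeven.Small UFourThreeSeven.one := fun i j => by
  rw [UFourThreeSeven.one]; split_ifs <;> norm_num

theorem ev_psuElt : ∀ w : List ℕ, UFourThreeSeven.Small (unpack (wordMat w)) ∧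
    (ev (psuElt R) w).1.1 = toMat R (unpack (wordMat w)) := by
  intro w
  induction w using List.reverseRecOn with
  | nil =>
    have e : unpack (wordMat []) = UFourThreeSeven.one := by
      rw [wordMat, List.foldl_nil, unpack_pack one_small]
    rw [e, toMat_one]
    exact ⟨one_small, rfl⟩
  | append_singleton w x ih =>
    obtain ⟨hs, he⟩ := mulC_spec R ih.1 (psuGen_su x).1
    have e : unpack (wordMat (w ++ [x])) = mulC (unpack (wordMat w)) (psuGen x) := by
      rw [wordMat, List.foldl_append, List.foldl_cons, List.foldl_nil, strict_eq]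
      exact unpack_pack hs
    rw [e, he, ← ih.2, ev_append]
    refine ⟨hs, ?_⟩
    show (ev (psuElt R) w).1.1 * (ev (psuElt R) [x]).1.1 = _
    rw [show ev (psuElt R) [x] = psuElt R x by simp [ev]]
    rfl

theorem scal_center {s : ℕ} (hs : s ∈ [1, 2, 3, 6]) :
    elem R (scalM s) (scalM_su s hs) ∈ Subgroup.center ↥(Cfsg.SU 4 F 3) := by
  rw [Subgroup.mem_center_iff]
  intro y
  refine su_ext ?_
  show y.1.1 * toMat R (scalM s) = toMat R (scalM s) * y.1.1
  rw [show toMat R (scalM s) = Matrix.scalar (Fin 4) (phi R s) from Matrix.ext fun i j => by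
    rw [toMat, Matrix.of_apply, scalM, Matrix.scalar_apply, Matrix.diagonal_apply]
    split_ifs
    · rfl
    · exact phi_zero R]
  exact ((Matrix.scalar_commute (phi R s) (fun r => Commute.all _ _) y.1.1).eq).symm

theorem ev_center {w : List ℕ} (h : wordMat w ∈ [1, 2, 3, 6].map (fun s => pack (scalM s))) :
    ev (psuElt R) w ∈ Subgroup.center ↥(Cfsg.SU 4 F 3) := by
  obtain ⟨s, hs, e⟩ := List.mem_map.1 h
  convert scal_center R hs using 1
  refine su_ext ?_
  rw [(ev_psuElt R w).2, ← e, unpack_pack (scalM_su s hs).1]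
  rfl

theorem card_psu_four [Fintype F] (hF : Fintype.card F = 9) : Nat.card (Cfsg.PSU 4 F 3) = 3265920 := by
  have hF' : Fintype.card F = 3 ^ 2 := by rw [hF]; norm_num
  obtain ⟨C⟩ := CfsgLib.Classical.uctx_exists hF'
  have h1 := CfsgLib.Classical.card_su_mul C hF' (n := 4) (by norm_num)
  rw [CfsgLib.Classical.card_gu_formula C hF' 4] at h1
  have h2 := Subgroup.card_eq_card_quotient_mul_card_subgroup (Subgroup.center (Cfsg.SU 4 F 3))
  rw [C.card_center_su hF' (by norm_num : 3 ≤ 4)] at h2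
  rw [h2, show (3 : ℕ) ^ (4 * (4 - 1) / 2) * ∏ i ∈ Finset.range 4,
      (if Even i then 3 ^ (i + 1) + 1 else 3 ^ (i + 1) - 1) = 52254720 by decide +kernel,
    show Nat.gcd 4 (3 + 1) = 4 from rfl] at h1
  change 4 * (Nat.card (Cfsg.PSU 4 F 3) * 4) = 52254720 at h1
  omega

include R in
/-- Elements of the projective group satisfying the relators. -/
theorem exists_psu : ∃ g : ℕ → Cfsg.PSU 4 F 3, (∀ x, g x * g x = 1) ∧ (∀ x, 5 ≤ x → g x = 1) ∧
    (∀ w ∈ fullRels, ev g w = 1) ∧ ev g zWord ≠ 1 := by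
  let π : ↥(Cfsg.SU 4 F 3) →* Cfsg.PSU 4 F 3 := QuotientGroup.mk' _
  refine ⟨fun x => π (psuElt R x), fun x => ?_, fun x hx => ?_, fun w hw => ?_, fun h => ?_⟩
  · rcases lt_or_ge x 5 with hx | hx
    · rw [← map_mul, show psuElt R x * psuElt R x = ev (psuElt R) [x, x] by simp [ev]]
      exact (QuotientGroup.eq_one_iff _).2 (ev_center R (squares_scalar x hx))
    · obtain ⟨y, rfl⟩ : ∃ y, x = y + 5 := ⟨x - 5, by omega⟩
      have e : psuElt R (y + 5) = 1 := su_ext (by
        show toMat R UFourThreeSeven.one = 1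
        exact toMat_one R)
      simp [e]
  · obtain ⟨y, rfl⟩ : ∃ y, x = y + 5 := ⟨x - 5, by omega⟩
    have e : psuElt R (y + 5) = 1 := su_ext (by
      show toMat R UFourThreeSeven.one = 1
      exact toMat_one R)
    simp [e]
  · rw [← map_ev]
    exact (QuotientGroup.eq_one_iff _).2 (ev_center R (full_scalar w hw))
  · rw [← map_ev] at h
    have hc := (QuotientGroup.eq_one_iff _).1 h
    have e := congrArg (fun y => y.1.1) (Subgroup.mem_center_iff.1 hc (psuElt R 4))
    obtain ⟨hs, he⟩ := ev_psuElt R zWord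
    have h4 := (psuGen_su 4).1
    apply zWord_moves
    refine toMat_inj R (mulC_spec R hs h4).1 (mulC_spec R h4 hs).1 ?_
    rw [(mulC_spec R hs h4).2, (mulC_spec R h4 hs).2, ← he]
    exact e.symm

end CfsgLib.Spor.UFourType
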