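import Cfsg.Agent.Lib.Spor.UFourType.Uniq.Generated
import Cfsg.Agent.Lib.Spor.UFourType.Uniq.Psu
import Cfsg.Agent.Lib.Spor.UFourType.Main

/-!
# A group of `U₄(3)` type is `PSU₄(9)`
-/

set_option autoImplicit false
set_option linter.unusedSectionVars false
set_option synthInstance.maxSize 4096

namespace CfsgLib.Spor.UFourType

open Subgroup CfsgLib.Spor.TC CfsgLib.Char.SU33

noncomputable section

/-- The commutator of two codes, the second an involution. -/
def commC (c d : ℕ) : ℕ := mC (mC (mC c d) (mPow c 23)) d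

theorem reach_z : ∀ c < 1152, c = 0 ∨ c = zC ∨ ∃ d ∈ qInvList,
    commC c d = zC ∨ ∃ e ∈ qInvList, commC (commC c d) e = zC := by decide +kernel

theorem zWord_code : foldC zWord = zC ∧ (∀ i ∈ zWord, i < 4) ∧ mC zC uC = 148 ∧ 148 ∈ qInvList := by decide +kernel

namespace Model

variable {G : Type*} [Group G] [Finite G] {z : G} {Q : Subgroup G} {ψ : ℕ → G} (M : Model z Q ψ)
include M

/-- The relators, together with the exchange, generate. -/
theorem closure_gen {φ : G} (hN : Nice z ψ φ) : closure (genG ψ φ '' Set.Iio 5) = ⊤ := by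
  classical
  set H := closure (genG ψ φ '' Set.Iio 5) with hH
  have hψ : ∀ c < 1152, ψ c ∈ H := by
    intro c hc
    obtain ⟨h₁, h₂⟩ := gen_all c hc
    rw [← h₁, ← (M.ev_code φ _ h₂).2]
    exact ev_mem fun x hx => subset_closure ⟨x, lt_trans (h₂ x hx) (by norm_num), rfl⟩
  have hφ : φ ∈ H := subset_closure ⟨4, by norm_num, M.genG_four hN⟩
  have hC : centralizer ({z} : Set G) ≤ H := fun g hg => by
    obtain ⟨c, hc, rfl⟩ := M.surj g hg
    exact hψ c hc
  have hzH : z ∈ H := M.at_z ▸ hψ zC (by norm_num)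
  have hQH : Q ≤ H := M.leQ.trans hC
  let z₀ : H := ⟨z, hzH⟩
  let ψ₀ : ℕ → H := fun c => if h : c < 1152 then ⟨ψ c, hψ c h⟩ else 1
  have hv : ∀ c < 1152, (ψ₀ c : G) = ψ c := fun c hc => by simp only [ψ₀, dif_pos hc]
  have hmem : ∀ g : H, g ∈ centralizer ({z₀} : Set H) ↔ (g : G) ∈ centralizer ({z} : Set G) := fun g => by
    rw [mem_centralizer_singleton_iff, mem_centralizer_singleton_iff]
    exact Subtype.ext_iff
  have M₀ : Model z₀ (Q.subgroupOf H) ψ₀ := by
    refine ⟨?_, fun c hc => ?_, fun c hc d hd => ?_, fun c hc d hd e => ?_, fun g hg => ?_, Subtype.ext ?_,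
      fun c hc => ?_, ?_, fun g hg => (hmem g).2 (M.leQ hg), fun k hk q hq => ?_, fun g h₁ h₂ => ?_,
      fun g h₁ h₂ => ?_, ⟨⟨φ, hφ⟩, Subtype.ext ?_, Subtype.ext ?_⟩⟩
    · rw [← Subgroup.orderOf_coe]; exact M.ord
    · rw [hmem, hv c hc]; exact M.mem c hc
    · refine Subtype.ext ?_
      rw [Subgroup.coe_mul, hv c hc, hv d hd, hv _ (mC_lt hc hd)]
      exact M.mul c hc d hd
    · exact M.inj c hc d hd (by rw [← hv c hc, ← hv d hd, e])
    · obtain ⟨c, hc, e⟩ := M.surj _ ((hmem g).1 hg)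
      exact ⟨c, hc, Subtype.ext ((hv c hc).trans e)⟩
    · rw [hv zC (by norm_num)]; exact M.at_z
    · rw [mem_subgroupOf, hv c hc]; exact M.memQ c hc
    · rw [← M.card]
      exact Nat.card_congr
        { toFun := fun g => ⟨g.1.1, (hmem g.1).1 g.2⟩
          invFun := fun g => ⟨⟨g.1, hC g.2⟩, (hmem _).2 g.2⟩
          left_inv := fun g => rfl
          right_inv := fun g => rfl }
    · exact M.norm k ((hmem k).1 hk) q hq
    · exact M.neighbour g h₁ fun e => h₂ (Subtype.ext e)
    · rw [← M.inter g h₁ fun e => h₂ (Subtype.ext e), ← card_map_of_injective H.subtype_injective]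
      congr 2
      refine le_antisymm ?_ ?_
      · rintro _ ⟨x, ⟨hx, y, hy, rfl⟩, rfl⟩
        exact ⟨hx, y, hy, by simp⟩
      · rintro x ⟨hx, y, hy, rfl⟩
        exact ⟨(MulAut.conj g).toMonoidHom ⟨y, hQH hy⟩, ⟨(show (MulAut.conj g).toMonoidHom ⟨y, hQH hy⟩ ∈ Q.subgroupOf H from hx),
          ⟨⟨y, hQH hy⟩, hy, rfl⟩⟩, by simp⟩
    · show φ * z * φ⁻¹ = (ψ₀ uC : G)
      rw [hv uC (by norm_num)]; exact hN.at_z
    · show φ * (ψ₀ uC : G) * φ⁻¹ = z
      rw [hv uC (by norm_num)]; exact hN.at_u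
  exact eq_top_of_card_eq _ (M₀.card_eq.trans M.card_eq.symm)

/-- A homomorphism not killing the central involution is injective. -/
theorem injective_of {P : Type*} [Group P] (θ : G →* P) (hz : θ z ≠ 1) : Function.Injective θ := by
  rw [← MonoidHom.ker_eq_bot_iff]
  set N := θ.ker with hN
  have hzN : z ∉ N := hz
  have comm : ∀ {c d : ℕ}, c < 1152 → d ∈ qInvList → ψ c ∈ N → ψ (commC c d) ∈ N ∧ commC c d < 1152 := by
    intro c d hc hd h
    have ld := list_lt.2.2 d hd
    have hinv : (ψ c)⁻¹ = ψ (mPow c 23) := by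
      refine inv_eq_of_mul_eq_one_right ?_
      rw [← M.pow hc, ← pow_succ', M.pow hc, exponent24 c hc, M.one]
    have hdd : (ψ d)⁻¹ = ψ d := inv_eq_of_mul_eq_one_right (M.invol
      ((by decide +kernel : ∀ e ∈ qInvList, e ∈ invList) d hd)).1
    refine ⟨?_, mC_lt (mC_lt (mC_lt hc ld) (mPow_lt hc _)) ld⟩
    rw [show commC c d = mC (mC (mC c d) (mPow c 23)) d from rfl,
      ← M.mul _ (mC_lt (mC_lt hc ld) (mPow_lt hc _)) _ ld, ← M.mul _ (mC_lt hc ld) _ (mPow_lt hc _),
      ← M.mul c hc d ld, ← hinv]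
    nth_rw 2 [← hdd]
    rw [show ψ c * ψ d * (ψ c)⁻¹ * (ψ d)⁻¹ = ψ c * (ψ d * (ψ c)⁻¹ * (ψ d)⁻¹) by group]
    exact mul_mem h ((MonoidHom.normal_ker θ).conj_mem _ (inv_mem h) (ψ d))
  have hCN : ∀ g ∈ centralizer ({z} : Set G), g ∈ N → g = 1 := by
    intro g hg hgN
    obtain ⟨c, hc, rfl⟩ := M.surj g hg
    rcases reach_z c hc with rfl | rfl | ⟨d, hd, h⟩
    · exact M.one
    · exact absurd (M.at_z ▸ hgN) hzN
    obtain ⟨h₁, l₁⟩ := comm hc hd hgN
    rcases h with h | ⟨e, he, h⟩
    · rw [h, M.at_z] at h₁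
      exact absurd h₁ hzN
    · obtain ⟨h₂, -⟩ := comm l₁ he h₁
      rw [h, M.at_z] at h₂
      exact absurd h₂ hzN
  have hinvz : ∀ n ∈ N, z * n * z = n⁻¹ := by
    intro n hn
    let f : N → N := fun m => ⟨m * (z * (m : G)⁻¹ * z⁻¹),
      mul_mem m.2 ((MonoidHom.normal_ker θ).conj_mem _ (inv_mem m.2) z)⟩
    have hf : Function.Injective f := by
      intro a b e
      have e' : (a : G) * (z * (a : G)⁻¹ * z⁻¹) = b * (z * (b : G)⁻¹ * z⁻¹) := congrArg Subtype.val e
      refine Subtype.ext ?_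
      have hC : (b : G)⁻¹ * a ∈ centralizer ({z} : Set G) := by
        refine mem_centralizer_singleton_iff.2 ?_
        calc (b : G)⁻¹ * a * z = (b : G)⁻¹ * (a * (z * (a : G)⁻¹ * z⁻¹)) * z * a := by group
          _ = (b : G)⁻¹ * (b * (z * (b : G)⁻¹ * z⁻¹)) * z * a := by rw [e']
          _ = _ := by group
      exact (inv_mul_eq_one.1 (hCN _ hC (mul_mem (inv_mem b.2) a.2))).symm
    obtain ⟨m, hm⟩ := (Finite.injective_iff_surjective.1 hf) ⟨n, hn⟩
    have e : (m : G) * (z * (m : G)⁻¹ * z⁻¹) = n := congrArg Subtype.val hm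
    rw [← e, M.z_inv]
    simp only [mul_inv_rev, inv_inv, M.z_inv, mul_assoc, M.zz, mul_one]
  have hconj : ∀ a, IsConj z a → ∀ n ∈ N, a * n * a = n⁻¹ := by
    intro a ha n hn
    obtain ⟨g, rfl⟩ := isConj_iff.1 ha
    have h := hinvz (g⁻¹ * n * g) (by
      have := (MonoidHom.normal_ker θ).conj_mem n hn g⁻¹
      rwa [inv_inv] at this)
    calc g * z * g⁻¹ * n * (g * z * g⁻¹) = g * (z * (g⁻¹ * n * g) * z) * g⁻¹ := by group
      _ = _ := by rw [h]; group
  rw [eq_bot_iff]
  intro n hn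
  obtain ⟨-, -, e, hq⟩ := zWord_code
  have h₁ : z * ψ uC * n * (z * ψ uC) = n⁻¹ :=
    hconj _ (by
      have h := M.mul zC (by norm_num) uC (by norm_num)
      rw [M.at_z, e] at h
      exact h ▸ M.isConj_q hq) n hn
  have hu : ψ uC * n * ψ uC = n⁻¹ := hconj _ M.isConj_u n hn
  have h₂ : z * ψ uC * n * (z * ψ uC) = n := by
    calc z * ψ uC * n * (z * ψ uC) = z * ψ uC * n * (ψ uC * z) := by rw [M.comm_z (show uC < 1152 by norm_num)]
      _ = z * (ψ uC * n * ψ uC) * z := by group
      _ = (z * n * z)⁻¹ := by rw [hu, mul_inv_rev, mul_inv_rev, M.z_inv, mul_assoc]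
      _ = n := by rw [hinvz n hn, inv_inv]
  have hsq : n = n⁻¹ := h₂.symm.trans h₁
  refine hCN n (mem_centralizer_singleton_iff.2 ?_) hn
  calc n * z = (z * z) * n * z := by rw [M.zz, one_mul]
    _ = z * (z * n * z) := by group
    _ = z * n := by rw [hinvz n hn, ← hsq]

/-- The isomorphism. -/
theorem nonempty_psu {F : Type} [Field F] [Fintype F] (hF : Fintype.card F = 9) :
    Nonempty (G ≃* Cfsg.PSU 4 F 3) := by
  classical
  obtain ⟨φ, hN⟩ := M.exists_nice
  obtain ⟨R⟩ := exists_root hF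
  set P := Cfsg.PSU 4 F 3 with hP
  obtain ⟨p, psq, pout, prel, pz⟩ := exists_psu R
  set g := genG ψ φ with hg
  let q : ℕ → G × P := fun x => (g x, p x)
  have qsq : ∀ x, q x * q x = 1 := fun x => Prod.ext (M.gen_sq hN x) (psq x)
  have qone : ∀ x, 5 ≤ x → q x = 1 := fun x hx => Prod.ext
    (by show genG ψ φ x = 1; rw [genG, if_neg (by omega), if_neg (by omega)]) (pout x hx)
  set D := closure (q '' Set.Iio 5) with hD
  have qmem : ∀ x, q x ∈ D := fun x => by
    by_cases hx : x < 5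
    · exact subset_closure ⟨x, hx, rfl⟩
    · rw [qone x (by omega)]; exact one_mem _
  let qD : ℕ → D := fun x => ⟨q x, qmem x⟩
  have hev : ∀ w, ((ev qD w : D) : G × P) = ev q w := fun w => by
    show D.subtype (ev qD w) = _
    rw [map_ev]
    rfl
  have hevp : ∀ w, ev q w = (ev g w, ev p w) := fun w =>
    Prod.ext (map_ev (MonoidHom.fst G P) q w) (map_ev (MonoidHom.snd G P) q w)
  have hrel : ∀ w ∈ fullRels, ev qD w = 1 := fun w hw => Subtype.ext (by
    rw [hev, hevp, M.full_rels hN w hw, prel w hw]; rfl)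
  have hgen : closure (qD '' Set.Iio 5) = ⊤ := by
    refine map_injective D.subtype_injective ?_
    rw [MonoidHom.map_closure, Set.image_image, ← MonoidHom.range_eq_map, Subgroup.range_subtype]
    rfl
  set H := closure (qD '' Set.Iio 4) with hH
  have hidx := CertFull.cert.index_le CertFull.steps_ok CertFull.rows_ok CertFull.row_zero (by norm_num) qD
    (fun x => Subtype.ext (qsq x)) (Subtype.ext (qone 5 le_rfl)) hgen hrel H (fun w hw => by
      obtain ⟨i, hi, rfl⟩ := (by decide +kernel : ∀ v ∈ centSubs, ∃ i < 4, v = [i]) w hw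
      rw [show ev qD [i] = qD i by simp [ev]]
      exact subset_closure ⟨i, hi, rfl⟩)
  let hx : ℕ → H := fun x => if h : x < 4 then ⟨qD x, subset_closure ⟨x, h, rfl⟩⟩ else 1
  have hxv : ∀ x < 4, (hx x : D) = qD x := fun x h => by simp only [hx, dif_pos h]
  have hxgen : closure (hx '' Set.Iio 4) = ⊤ := by
    refine map_injective H.subtype_injective ?_
    rw [MonoidHom.map_closure, Set.image_image, Set.image_congr (s := Set.Iio 4) (f := fun x => H.subtype (hx x)) (g := qD)
      (fun x h => hxv x h), ← MonoidHom.range_eq_map, Subgroup.range_subtype]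
  have hcard : Nat.card H ≤ 1152 := by
    have h := CertCent.cert.index_le CertCent.steps_ok CertCent.rows_ok CertCent.row_zero (by norm_num) hx
      (fun x => by
        by_cases h : x < 4
        · refine Subtype.ext (Subtype.ext ?_)
          rw [Subgroup.coe_mul, hxv x h]
          exact qsq x
        · simp [hx, dif_neg h])
      (by show (hx 4) = 1; simp [hx]) hxgen
      (fun w hw => Subtype.ext (by
        show H.subtype (ev hx w) = 1
        rw [map_ev, ← hrel w (List.mem_append_left _ (List.mem_append_left _ hw))]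
        exact ev_congr fun x hxw => hxv x ((centRels_spec w hw).2 x hxw))) ⊥
      (fun w hw => absurd hw (List.not_mem_nil))
    rw [index_bot] at h
    exact h.2
  have hDcard : Nat.card D ≤ 3265920 := by
    rw [← H.index_mul_card]
    calc H.index * Nat.card H ≤ 2835 * 1152 := Nat.mul_le_mul hidx.2 hcard
      _ = 3265920 := by norm_num
  let π₁ : D →* G := (MonoidHom.fst G P).comp D.subtype
  have hsurj : Function.Surjective π₁ := by
    rw [← MonoidHom.range_eq_top, eq_top_iff, ← M.closure_gen hN, closure_le]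
    rintro _ ⟨x, -, rfl⟩
    exact ⟨qD x, rfl⟩
  haveI : Finite P := Nat.finite_of_card_ne_zero (by rw [card_psu_four hF]; norm_num)
  have hb := hsurj.bijective_of_nat_card_le (hDcard.trans M.card_eq.ge)
  let θ : G →* P := ((MonoidHom.snd G P).comp D.subtype).comp (MulEquiv.ofBijective π₁ hb).symm.toMonoidHom
  have hθ : θ z ≠ 1 := by
    obtain ⟨e₁, e₂, -⟩ := zWord_code
    have h : (MulEquiv.ofBijective π₁ hb).symm z = ev qD zWord := by
      refine (MulEquiv.ofBijective π₁ hb).symm_apply_eq.2 ?_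
      show z = ((ev qD zWord : D) : G × P).1
      rw [hev, hevp, (M.ev_code φ zWord e₂).2, e₁, M.at_z]
    show ((((MulEquiv.ofBijective π₁ hb).symm z : D) : G × P)).2 ≠ 1
    rw [h, hev, hevp]
    exact pz
  exact ⟨MulEquiv.ofBijective θ ((M.injective_of θ hθ).bijective_of_nat_card_le
    (by rw [card_psu_four hF, M.card_eq]))⟩

end Model

end

end CfsgLib.Spor.UFourType
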