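import Cfsg.Agent.Lib.Spor.UFourType.Uniq.Cert.Full
import Cfsg.Agent.Lib.Spor.UFourType.Uniq.Cert.Cent
import Cfsg.Agent.Lib.Spor.UFourType.Uniq.Cert.A0
import Cfsg.Agent.Lib.Spor.UFourType.Uniq.Cert.A1
import Cfsg.Agent.Lib.Spor.UFourType.Uniq.Cert.A2
import Cfsg.Agent.Lib.Spor.UFourType.Uniq.Cert.A3
import Cfsg.Agent.Lib.Spor.UFourType.Uniq.Cert.A4
import Cfsg.Agent.Lib.Spor.UFourType.Uniq.Cert.A5
import Cfsg.Agent.Lib.Spor.UFourType.Uniq.Cert.A6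
import Cfsg.Agent.Lib.Spor.UFourType.Uniq.Cert.B0
import Cfsg.Agent.Lib.Spor.UFourType.Uniq.Cert.B1
import Cfsg.Agent.Lib.Spor.UFourType.Uniq.Cert.B2
import Cfsg.Agent.Lib.Spor.UFourType.Uniq.Cert.B3
import Cfsg.Agent.Lib.Spor.UFourType.Uniq.Cert.B4
import Cfsg.Agent.Lib.Spor.UFourType.Uniq.Cert.B5
import Cfsg.Agent.Lib.Spor.UFourType.Uniq.Cert.B6

/-! # The certificates -/
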