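import Cfsg.Agent.Lib.Spor.UFourType.Classes

/-!
# A normal form for an element exchanging two commuting involutions

In a group of `U₄(3)` type the exchange can be chosen as an involution with prescribed action on the
centralizer of the four group.
-/

set_option autoImplicit false
set_option linter.unusedSectionVars false
set_option synthInstance.maxSize 4096

namespace CfsgLib.Spor.UFourType

open Subgroup

noncomputable section

/-- Generators of the centralizer of the four group. -/
def mGens : List ℕ := [202, 251, 2, 147]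

/-- Their images under the exchange in normal form. -/
def tGens : List ℕ := [202, 251, 348, 204]

/-- The value of a word in the members of a list. -/
def foldM (a : List ℕ) (w : List ℕ) : ℕ := w.foldl (fun x i => mC x (a.getD i 0)) 0

/-- Words for the elements of the centralizer of the four group. -/
def mWords : List (List ℕ) :=
  [[], [0, 2, 1, 2], [2], [0, 1, 2], [0, 3, 2, 1], [0, 2, 3, 0], [3, 0, 1], [2, 3, 2], [0, 3, 0, 3], [0, 1],
   [1, 2, 1], [0, 2, 1], [0, 1, 3, 2], [2, 3], [0, 1, 3], [0, 1, 0, 1, 3], [0, 1, 2, 3], [3, 2], [1, 3, 0],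
   [0, 3, 0], [2, 3, 2, 3], [1, 0], [3, 2, 3], [2, 1, 0], [0, 2, 1, 3], [0, 3, 0, 2], [1, 0, 3], [3],
   [0, 1, 0, 1], [1, 3, 0, 3], [0, 1, 0, 1, 2], [1, 0, 2], [0, 2], [1, 2], [0], [2, 1, 2], [0, 1, 0, 3], [0, 3],
   [2, 1, 3], [3, 0, 2], [0, 1, 2, 1], [2, 1], [3, 0, 3], [1], [0, 1, 3, 0], [3, 0], [1, 2, 3], [0, 3, 2],
   [1, 3], [1, 0, 1, 3], [1, 3, 2], [0, 2, 3], [0, 3, 2, 3], [0, 2, 1, 0], [0, 2, 3, 2, 3], [0, 1, 0],
   [0, 3, 0, 1], [0, 2, 3, 2], [3, 2, 1], [2, 3, 0], [1, 0, 1, 2], [0, 1, 0, 2], [1, 0, 1], [0, 1, 3, 0, 3]]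

/-- The word of an element. -/
def mWord (c : ℕ) : List ℕ := mWords.getD (mList.idxOf c) []

/-- The image of an element when the generators go to the members of a list. -/
def imgM (a : List ℕ) (c : ℕ) : ℕ := foldM a (mWord c)

/-- The conditions on the image of a generator: its square and those of its products with earlier ones. -/
def sqOK (x : ℕ) (prev : List (ℕ × ℕ)) : Bool :=
  mC x x == 0 && prev.all fun p => mC (mC x p.1) (mC x p.1) == p.2

/-- The condition on the square of an exchange. -/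
def sqCond (a : List ℕ) (m₀ : ℕ) : Bool :=
  (List.range 4).all (fun i => mC m₀ (mGens.getD i 0) == mC (imgM a (a.getD i 0)) m₀) && imgM a m₀ == m₀

/-- The action of the exchange times the element permuting the four group cyclically. -/
def rho (a : List ℕ) (c : ℕ) : ℕ := imgM a (mC (mC 108 c) 108)

/-- The condition on the cube of that product. -/
def cubeCond (a : List ℕ) (m₁ : ℕ) : Bool :=
  (List.range 4).all (fun i =>
    mC m₁ (mGens.getD i 0) == mC (rho a (rho a (rho a (mGens.getD i 0)))) m₁) && rho a m₁ == m₁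

/-- The correcting elements. -/
def fixer (a : List ℕ) (m₀ : ℕ) : Bool :=
  mList.any fun x => (List.range 4).all (fun i => mC x (a.getD i 0) == mC (tGens.getD i 0) x) &&
    mC (mC x (imgM a x)) m₀ == 0

/-- Every possible action is corrected. -/
def reduceCheck : Bool :=
  (mList.filter fun a => sqOK a []).all fun a =>
  (mList.filter fun b => sqOK b [(a, 148)]).all fun b =>
  (mList.filter fun c => sqOK c [(a, 0), (b, 100)]).all fun c =>
  (mList.filter fun d => sqOK d [(a, 100), (b, 0), (c, 48)]).all fun d =>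
    inQ (foldM [a, b, c, d] [0, 2]) || inQ (foldM [a, b, c, d] [0, 1, 0, 3]) ||
      mList.all fun m₀ => !sqCond [a, b, c, d] m₀ ||
        mList.all fun m₁ => !cubeCond [a, b, c, d] m₁ || fixer [a, b, c, d] m₀

theorem reduce_ok : reduceCheck = true := by decide +kernel

theorem mWord_spec : ∀ c ∈ mList, (∀ i ∈ mWord c, i < 4) ∧ foldM mGens (mWord c) = c := by decide +kernel

theorem gen_facts : (∀ i < 4, mGens.getD i 0 ∈ mList ∧ tGens.getD i 0 ∈ mList) ∧
    mC 202 202 = 0 ∧ mC 251 251 = 0 ∧ mC 2 2 = 0 ∧ mC 147 147 = 0 ∧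
    mC (mC 251 202) (mC 251 202) = 148 ∧ mC (mC 2 202) (mC 2 202) = 0 ∧ mC (mC 2 251) (mC 2 251) = 48 ∧
    mC (mC 147 202) (mC 147 202) = 48 ∧ mC (mC 147 251) (mC 147 251) = 0 ∧ mC (mC 147 2) (mC 147 2) = 100 ∧
    foldM mGens [0, 2] = 200 ∧ foldM mGens [0, 1, 0, 3] = 204 ∧ mC 48 100 = 148 ∧ mC 100 48 = 148 ∧
    mC 108 108 = 0 ∧ mC (mC 108 100) 108 = 148 ∧ mC (mC 108 148) 108 = 100 := by decide +kernel

theorem mList_closed : ∀ c ∈ mList, (∀ d ∈ mList, mC c d ∈ mList) ∧ mC (mC 108 c) 108 ∈ mList := by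
  decide +kernel

end

end CfsgLib.Spor.UFourType
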