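import Cfsg.Agent.Lib.Spor.UFourType.Uniq.Exchange

/-!
# The exchanging involution
-/

set_option autoImplicit false
set_option linter.unusedSectionVars false
set_option synthInstance.maxSize 4096

namespace CfsgLib.Spor.UFourType

open Subgroup

noncomputable section

/-- An exchange in normal form. -/
structure Nice {G : Type*} [Group G] (z : G) (ψ : ℕ → G) (φ : G) : Prop where
  sq : φ * φ = 1
  at_z : φ * z * φ⁻¹ = ψ uC
  at_u : φ * ψ uC * φ⁻¹ = z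
  gens : ∀ i < 4, φ * ψ (mGens.getD i 0) * φ⁻¹ = ψ (tGens.getD i 0)

namespace Model

variable {G : Type*} [Group G] [Finite G] {z : G} {Q : Subgroup G} {ψ : ℕ → G} (M : Model z Q ψ)
include M

/-- Conjugation by an element preserving the four group preserves its centralizer. -/
theorem mList_image {τ : G} {a b : ℕ} (ha : a < 1152) (hb : b < 1152) (hz : τ * z * τ⁻¹ = ψ uC)
    (hab : τ * ψ a * τ⁻¹ = z ∧ τ * ψ b * τ⁻¹ = z) {c : ℕ} (hca : mC c a = mC a c) (hc : c ∈ mList) :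
    ∃ d ∈ mList, τ * ψ c * τ⁻¹ = ψ d := by
  have lc := mList_lt c hc
  have hC : τ * ψ c * τ⁻¹ ∈ centralizer ({z} : Set G) := by
    refine mem_centralizer_singleton_iff.2 ?_
    rw [← hab.1]
    simp only [mul_assoc, inv_mul_cancel_left]
    rw [← mul_assoc (ψ c), (M.comm_iff lc ha).2 hca, mul_assoc]
  obtain ⟨d, ld, hd⟩ := M.surj _ hC
  refine ⟨d, (mList_iff d ld).1 ?_, hd.symm⟩
  rw [← M.comm_iff ld (by norm_num), hd, ← hz]
  calc τ * ψ c * τ⁻¹ * (τ * z * τ⁻¹) = τ * (ψ c * z) * τ⁻¹ := by group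
    _ = τ * (z * ψ c) * τ⁻¹ := by rw [M.comm_z lc]
    _ = _ := by group

/-- The image of a product of generators. -/
theorem conj_word {φ : G} {a : List ℕ}
    (h : ∀ i < 4, a.getD i 0 ∈ mList ∧ φ * ψ (mGens.getD i 0) * φ⁻¹ = ψ (a.getD i 0)) :
    ∀ w : List ℕ, (∀ i ∈ w, i < 4) → foldM mGens w ∈ mList ∧ foldM a w ∈ mList ∧
      φ * ψ (foldM mGens w) * φ⁻¹ = ψ (foldM a w) := by
  intro w
  induction w using List.reverseRecOn with
  | nil =>
    intro _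
    refine ⟨by decide +kernel, by simp [foldM]; decide +kernel, ?_⟩
    simp [foldM, M.one]
  | append_singleton w i ih =>
    intro hw
    obtain ⟨h₁, h₂, h₃⟩ := ih fun j hj => hw j (List.mem_append_left _ hj)
    obtain ⟨ha, hai⟩ := h i (hw i (by simp))
    have hg := (gen_facts.1 i (hw i (by simp))).1
    have e : ∀ b : List ℕ, foldM b (w ++ [i]) = mC (foldM b w) (b.getD i 0) := fun b => by
      simp [foldM]
    rw [e, e]
    refine ⟨(mList_closed _ h₁).1 _ hg, (mList_closed _ h₂).1 _ ha, ?_⟩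
    rw [← M.mul _ (mList_lt _ h₁) _ (mList_lt _ hg), ← M.mul _ (mList_lt _ h₂) _ (mList_lt _ ha), ← h₃, ← hai]
    group

theorem conj_img {φ : G} {a : List ℕ}
    (h : ∀ i < 4, a.getD i 0 ∈ mList ∧ φ * ψ (mGens.getD i 0) * φ⁻¹ = ψ (a.getD i 0)) {c : ℕ} (hc : c ∈ mList) :
    imgM a c ∈ mList ∧ φ * ψ c * φ⁻¹ = ψ (imgM a c) := by
  obtain ⟨hw, e⟩ := mWord_spec c hc
  obtain ⟨-, h₂, h₃⟩ := M.conj_word h (mWord c) hw
  rw [e] at h₃
  exact ⟨h₂, h₃⟩

/-- An element of the centralizer of the four group with given conjugation is found among the codes. -/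
theorem of_code {τ : G} {f : ℕ → ℕ} (hf : ∀ c ∈ mList, f c ∈ mList ∧ τ * ψ c * τ⁻¹ = ψ (f c)) {m : ℕ}
    (hm : m ∈ mList) {g : G} (hg : ψ m = g) (hτ : Commute g τ) : f m = m := by
  refine M.inj _ (mList_lt _ (hf m hm).1) _ (mList_lt m hm) ?_
  rw [← (hf m hm).2, hg, ← hτ.eq, mul_inv_cancel_right]

/-- The cube of the product with the element permuting the four group. -/
theorem cube_code {φ : G} {A : List ℕ}
    (hgen : ∀ i < 4, A.getD i 0 ∈ mList ∧ φ * ψ (mGens.getD i 0) * φ⁻¹ = ψ (A.getD i 0))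
    (φz : φ * z * φ⁻¹ = ψ uC) (φu : φ * ψ uC * φ⁻¹ = z) (f148 : φ * ψ 148 * φ⁻¹ = ψ 148) :
    ∃ m₁ ∈ mList, cubeCond A m₁ = true ∧ ψ m₁ = φ * ψ 108 * (φ * ψ 108) * (φ * ψ 108) := by
  have lu : uC < 1152 := by norm_num
  have g0 := gen_facts.1
  have himg : ∀ x ∈ mList, imgM A x ∈ mList ∧ φ * ψ x * φ⁻¹ = ψ (imgM A x) := fun x hx => M.conj_img hgen hx
  obtain ⟨-, -, -, -, -, -, -, -, -, -, -, -, -, -, -, k2, k100, k148⟩ := gen_facts
  have lk : 108 < 1152 := by norm_num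
  have ck : ∀ x, x < 1152 → ψ 108 * ψ x * (ψ 108)⁻¹ = ψ (mC (mC 108 x) 108) := fun x lx => by
    rw [inv_eq_of_mul_eq_one_right (by rw [M.mul _ lk _ lk, k2, M.one] : ψ 108 * ψ 108 = 1),
      M.mul _ lk _ lx, M.mul _ (mC_lt lk lx) _ lk]
  set τ := φ * ψ 108 with hτ
  have hrho : ∀ x ∈ mList, rho A x ∈ mList ∧ τ * ψ x * τ⁻¹ = ψ (rho A x) := by
    intro x hx
    obtain ⟨h₁, h₂⟩ := himg _ ((mList_closed x hx).2)
    refine ⟨h₁, ?_⟩
    show _ = ψ (imgM A (mC (mC 108 x) 108))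
    rw [← h₂, ← ck x (mList_lt x hx), hτ]
    group
  have tz : τ * z * τ⁻¹ = ψ uC := by
    rw [hτ, show φ * ψ 108 * z * (φ * ψ 108)⁻¹ = φ * (ψ 108 * z * (ψ 108)⁻¹) * φ⁻¹ by group, M.comm_z lk,
      mul_inv_cancel_right, φz]
  have tu : τ * ψ uC * τ⁻¹ = ψ 148 := by
    rw [hτ, show φ * ψ 108 * ψ uC * (φ * ψ 108)⁻¹ = φ * (ψ 108 * ψ uC * (ψ 108)⁻¹) * φ⁻¹ by group, ck _ lu,
      k100, f148]
  have tw : τ * ψ 148 * τ⁻¹ = z := by
    rw [hτ, show φ * ψ 108 * ψ 148 * (φ * ψ 108)⁻¹ = φ * (ψ 108 * ψ 148 * (ψ 108)⁻¹) * φ⁻¹ by group,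
      ck _ (by norm_num), k148, φu]
  obtain ⟨m₁, l₁, e₁⟩ := M.surj (τ * τ * τ) (mem_centralizer_singleton_iff.2 (by
    calc τ * τ * τ * z = τ * τ * (τ * z * τ⁻¹) * τ := by group
      _ = τ * (τ * ψ uC * τ⁻¹) * τ * τ := by rw [tz]; group
      _ = (τ * ψ 148 * τ⁻¹) * (τ * τ * τ) := by rw [tu]; group
      _ = _ := by rw [tw]))
  have hm₁ : m₁ ∈ mList := (mList_iff m₁ l₁).1 ((M.comm_iff l₁ lu).1 (by
    rw [e₁]
    calc τ * τ * τ * ψ uC = τ * τ * (τ * ψ uC * τ⁻¹) * τ := by group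
      _ = τ * (τ * ψ 148 * τ⁻¹) * τ * τ := by rw [tu]; group
      _ = (τ * z * τ⁻¹) * (τ * τ * τ) := by rw [tw]; group
      _ = _ := by rw [tz]))
  refine ⟨m₁, hm₁, ?_, e₁⟩
  simp only [cubeCond, Bool.and_eq_true, List.all_eq_true, List.mem_range, beq_iff_eq]
  refine ⟨fun i hi => ?_, M.of_code hrho hm₁ e₁
    (((Commute.refl τ).mul_left (Commute.refl τ)).mul_left (Commute.refl τ))⟩
  have hg := (g0 i hi).1
  obtain ⟨h₁, e₁'⟩ := hrho _ hg
  obtain ⟨h₂, e₂'⟩ := hrho _ h₁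
  obtain ⟨h₃, e₃'⟩ := hrho _ h₂
  refine M.inj _ (mC_lt l₁ (mList_lt _ hg)) _ (mC_lt (mList_lt _ h₃) l₁) ?_
  rw [← M.mul _ l₁ _ (mList_lt _ hg), ← M.mul _ (mList_lt _ h₃) _ l₁, e₁, ← e₃', ← e₂', ← e₁']
  group

/-- The exchange has a normal form. -/
theorem exists_nice : ∃ φ : G, Nice z ψ φ := by
  obtain ⟨φ, φz, φu⟩ := M.exchange
  obtain ⟨g0, q202, q251, q2, q147, p10, p20, p21, p30, p31, p32, w200, w204, hzu, huz, -⟩ := gen_facts
  have lu : uC < 1152 := by norm_num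
  have hex : ∀ c ∈ mList, ∃ d ∈ mList, φ * ψ c * φ⁻¹ = ψ d := fun c hc =>
    M.mList_image lu lu φz ⟨φu, φu⟩ ((mList_iff c (mList_lt c hc)).2 hc) hc
  obtain ⟨a, ha, ea⟩ := hex 202 (g0 0 (by norm_num)).1
  obtain ⟨b, hb, eb⟩ := hex 251 (g0 1 (by norm_num)).1
  obtain ⟨c, hc, ec⟩ := hex 2 (g0 2 (by norm_num)).1
  obtain ⟨d, hd, ed⟩ := hex 147 (g0 3 (by norm_num)).1
  set A := [a, b, c, d] with hA
  have hgen : ∀ i < 4, A.getD i 0 ∈ mList ∧ φ * ψ (mGens.getD i 0) * φ⁻¹ = ψ (A.getD i 0) := by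
    intro i hi
    interval_cases i
    exacts [⟨ha, ea⟩, ⟨hb, eb⟩, ⟨hc, ec⟩, ⟨hd, ed⟩]
  have f1 : φ * ψ 0 * φ⁻¹ = ψ 0 := by rw [M.one]; group
  have f48 : φ * ψ 48 * φ⁻¹ = ψ 100 := by rw [M.at_z]; exact φz
  have f100 : φ * ψ 100 * φ⁻¹ = ψ 48 := by rw [M.at_z]; exact φu
  have f148 : φ * ψ 148 * φ⁻¹ = ψ 148 := by
    calc φ * ψ 148 * φ⁻¹ = φ * ψ 48 * φ⁻¹ * (φ * ψ 100 * φ⁻¹) := by
          rw [← hzu, ← M.mul 48 (by norm_num) 100 lu]; group
      _ = _ := by rw [f48, f100, M.mul 100 lu 48 (by norm_num), huz]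
  have sq : ∀ {x i : ℕ}, x < 1152 → i < 1152 → φ * ψ i * φ⁻¹ = ψ x → ∀ {v v' : ℕ}, mC i i = v → v' < 1152 →
      φ * ψ v * φ⁻¹ = ψ v' → mC x x = v' := by
    intro x i lx li e v v' hv lv hv'
    refine M.inj _ (mC_lt lx lx) _ lv ?_
    rw [← M.mul x lx x lx, ← e, ← hv', ← hv, ← M.mul i li i li]
    group
  have pr : ∀ {x i : ℕ}, x < 1152 → i < 1152 → φ * ψ i * φ⁻¹ = ψ x → ∀ {y j : ℕ}, y < 1152 → j < 1152 →
      φ * ψ j * φ⁻¹ = ψ y → φ * ψ (mC i j) * φ⁻¹ = ψ (mC x y) := by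
    intro x i lx li e y j ly lj e'
    rw [← M.mul i li j lj, ← M.mul x lx y ly, ← e, ← e']
    group
  have la := mList_lt a ha
  have lb := mList_lt b hb
  have lc := mList_lt c hc
  have ld := mList_lt d hd
  have mema : a ∈ mList.filter fun a => sqOK a [] :=
    List.mem_filter.2 ⟨ha, by simp [sqOK, sq la (by norm_num) ea q202 (by norm_num) f1]⟩
  have memb : b ∈ mList.filter fun b => sqOK b [(a, 148)] := List.mem_filter.2 ⟨hb, by
    simp [sqOK, sq lb (by norm_num) eb q251 (by norm_num) f1,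
      sq (mC_lt lb la) (mC_lt (by norm_num) (by norm_num)) (pr lb (by norm_num) eb la (by norm_num) ea) p10
        (by norm_num) f148]⟩
  have memc : c ∈ mList.filter fun c => sqOK c [(a, 0), (b, 100)] := List.mem_filter.2 ⟨hc, by
    simp [sqOK, sq lc (by norm_num) ec q2 (by norm_num) f1,
      sq (mC_lt lc la) (mC_lt (by norm_num) (by norm_num)) (pr lc (by norm_num) ec la (by norm_num) ea) p20
        (by norm_num) f1,
      sq (mC_lt lc lb) (mC_lt (by norm_num) (by norm_num)) (pr lc (by norm_num) ec lb (by norm_num) eb) p21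
        (by norm_num) f48]⟩
  have memd : d ∈ mList.filter fun d => sqOK d [(a, 100), (b, 0), (c, 48)] := List.mem_filter.2 ⟨hd, by
    simp [sqOK, sq ld (by norm_num) ed q147 (by norm_num) f1,
      sq (mC_lt ld la) (mC_lt (by norm_num) (by norm_num)) (pr ld (by norm_num) ed la (by norm_num) ea) p30
        (by norm_num) f48,
      sq (mC_lt ld lb) (mC_lt (by norm_num) (by norm_num)) (pr ld (by norm_num) ed lb (by norm_num) eb) p31
        (by norm_num) f1,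
      sq (mC_lt ld lc) (mC_lt (by norm_num) (by norm_num)) (pr ld (by norm_num) ed lc (by norm_num) ec) p32
        (by norm_num) f100]⟩
  have key := List.all_eq_true.1 (List.all_eq_true.1 (List.all_eq_true.1
    (List.all_eq_true.1 reduce_ok a mema) b memb) c memc) d memd
  rw [← hA, Bool.or_eq_true, Bool.or_eq_true] at key
  have hout : ∀ {w : List ℕ} {v : ℕ}, foldM mGens w = v → v ∈ qInvList → v ∉ [0, zC, uC, mC zC uC] →
      (∀ i ∈ w, i < 4) → inQ (foldM A w) = false := by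
    intro w v hv hq hn hw
    obtain ⟨-, h₂, h₃⟩ := M.conj_word hgen w hw
    rw [hv] at h₃
    by_contra hin
    refine hn (M.four_eq φz φu (list_lt.2.2 v hq) (M.qInv_mem hq) ?_)
    rw [h₃]
    exact (M.memQ _ (mList_lt _ h₂)).2 (by simpa using hin)
  rw [hout w200 (by decide) (by decide +kernel) (by simp),
    hout w204 (by decide) (by decide +kernel) (by simp)] at key
  simp only [Bool.false_eq_true, false_or, List.all_eq_true, Bool.or_eq_true, Bool.not_eq_true'] at key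
  -- the square
  have himg : ∀ x ∈ mList, imgM A x ∈ mList ∧ φ * ψ x * φ⁻¹ = ψ (imgM A x) := fun x hx => M.conj_img hgen hx
  obtain ⟨m₀, l₀, e₀⟩ := M.surj (φ * φ) (mem_centralizer_singleton_iff.2 (by
    calc φ * φ * z = φ * (φ * z * φ⁻¹) * φ := by group
      _ = φ * ψ uC * φ⁻¹ * (φ * φ) := by rw [φz]; group
      _ = _ := by rw [φu]))
  have hm₀ : m₀ ∈ mList := (mList_iff m₀ l₀).1 ((M.comm_iff l₀ lu).1 (by
    rw [e₀]
    calc φ * φ * ψ uC = φ * (φ * ψ uC * φ⁻¹) * φ := by group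
      _ = φ * z * φ⁻¹ * (φ * φ) := by rw [φu]; group
      _ = _ := by rw [φz]))
  have c₀ : sqCond A m₀ = true := by
    simp only [sqCond, Bool.and_eq_true, List.all_eq_true, List.mem_range, beq_iff_eq]
    refine ⟨fun i hi => ?_, M.of_code himg hm₀ e₀ ((Commute.refl φ).mul_left (Commute.refl φ))⟩
    obtain ⟨h₁, h₂⟩ := hgen i hi
    obtain ⟨h₃, h₄⟩ := himg _ h₁
    have hg := (g0 i hi).1
    refine M.inj _ (mC_lt l₀ (mList_lt _ hg)) _ (mC_lt (mList_lt _ h₃) l₀) ?_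
    rw [← M.mul _ l₀ _ (mList_lt _ hg), ← M.mul _ (mList_lt _ h₃) _ l₀, e₀, ← h₄, ← h₂]
    group
  -- the cube
  obtain ⟨m₁, hm₁, c₁, -⟩ := M.cube_code hgen φz φu f148
  have hfix : fixer A m₀ = true := by
    rcases key m₀ hm₀ with h | h
    · rw [c₀] at h; exact absurd h (by simp)
    · rcases h m₁ hm₁ with h | h
      · rw [c₁] at h; exact absurd h (by simp)
      · exact h
  simp only [fixer, List.any_eq_true, Bool.and_eq_true, List.all_eq_true, List.mem_range, beq_iff_eq] at hfix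
  obtain ⟨x, hx, hxa, hx0⟩ := hfix
  have lx := mList_lt x hx
  refine ⟨ψ x * φ, ?_, ?_, ?_, fun i hi => ?_⟩
  · obtain ⟨h₁, h₂⟩ := himg x hx
    rw [show ψ x * φ * (ψ x * φ) = ψ x * (φ * ψ x * φ⁻¹) * (φ * φ) by group, h₂, ← e₀,
      M.mul x lx _ (mList_lt _ h₁), M.mul _ (mC_lt lx (mList_lt _ h₁)) _ l₀, hx0, M.one]
  · rw [show ψ x * φ * z * (ψ x * φ)⁻¹ = ψ x * (φ * z * φ⁻¹) * (ψ x)⁻¹ by group, φz,
      M.conj_eq lx lu lu ((mList_iff x lx).2 hx)]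
  · rw [show ψ x * φ * ψ uC * (ψ x * φ)⁻¹ = ψ x * (φ * ψ uC * φ⁻¹) * (ψ x)⁻¹ by group, φu, M.comm_z lx,
      mul_inv_cancel_right]
  · obtain ⟨h₁, h₂⟩ := hgen i hi
    rw [show ψ x * φ * ψ (mGens.getD i 0) * (ψ x * φ)⁻¹ = ψ x * (φ * ψ (mGens.getD i 0) * φ⁻¹) * (ψ x)⁻¹ by group,
      h₂, M.conj_eq lx (mList_lt _ h₁) (mList_lt _ (g0 i hi).2) (hxa i hi)]

end Model

end

end CfsgLib.Spor.UFourType
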