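import Cfsg.Agent.Lib.Spor.UFourType.Uniq.Nice
import Cfsg.Agent.Lib.Spor.UFourType.Uniq.Certs
import Cfsg.Agent.Lib.Spor.UFourType.Local
import Cfsg.Agent.Lib.Spor.TC.Word

/-!
# The relators hold in every group of `U₄(3)` type
-/

set_option autoImplicit false
set_option linter.unusedSectionVars false
set_option synthInstance.maxSize 4096

namespace CfsgLib.Spor.UFourType

open Subgroup CfsgLib.Spor.TC

noncomputable section

/-- The codes of the generators of the centralizer. -/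
def gCodes : List ℕ := [202, 251, 406, 667]

/-- The code of a word. -/
def foldC (w : List ℕ) : ℕ := w.foldl (fun x i => mC x (gCodes.getD i 0)) 0

/-- The letters. -/
def genG {G : Type*} [Group G] (ψ : ℕ → G) (φ : G) : ℕ → G := fun x =>
  if x < 4 then ψ (gCodes.getD x 0) else if x = 4 then φ else 1

theorem gCodes_facts : ∀ i < 4, gCodes.getD i 0 < 1152 ∧ mC (gCodes.getD i 0) (gCodes.getD i 0) = 0 := by
  decide +kernel

theorem wordOf_spec : ∀ c ∈ [2, 108, 147, 204, 348, 400, 404, 472, 500, 508, 600, 640, 667, 700, 704, 714, 800,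
    860, 900, 936, 1000, 1044, 1100, 1124], foldC (wordOf c) = c ∧ ∀ i ∈ wordOf c, i < 4 := by decide +kernel

theorem centRels_spec : ∀ w ∈ centRels, foldC w = 0 ∧ ∀ i ∈ w, i < 4 := by decide +kernel

theorem nice_img : (∀ i < 4, tGens.getD i 0 ∈ mList) ∧ imgM tGens 202 = 202 ∧ imgM tGens 251 = 251 ∧
    imgM tGens 2 = 348 ∧ imgM tGens 147 = 204 ∧ imgM tGens 348 = 2 ∧ imgM tGens 7 = 252 ∧ imgM tGens 252 = 7 := by
  decide +kernel

theorem nice_cube : ∀ m ∈ mList, cubeCond tGens m = true → m = 0 := by decide +kernel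

theorem side_choices :
    (∀ t ∈ threeList, mC t 2 = mC 2 t → t ∈ [400, 500, 600, 700, 800, 900, 1000, 1100]) ∧
    (∀ t ∈ threeList, mC t 7 = mC 7 t → t ∈ [472, 508, 640, 704, 860, 936, 1044, 1124]) ∧
    (∀ p ∈ threeList, mC p 500 = mC 500 p → mC (mC (mC 2 p) 2) p = 0 → p = 404 ∨ mC p 404 = 0) := by
  decide +kernel

theorem side_codes : mC (mC 667 348) 667 = 100 ∧ mC (mC 667 100) 667 = 348 ∧ mC 667 667 = 0 ∧
    mC (mC 714 303) 714 = 7 ∧ mC (mC 714 252) 714 = 100 ∧ mC (mC 714 100) 714 = 252 ∧ mC 714 714 = 0 ∧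
    mC 400 2 = mC 2 400 ∧ mC 400 48 = mC 48 400 ∧ mC 404 303 = mC 303 404 ∧ mC 404 48 = mC 48 404 := by
  decide +kernel

namespace Model

variable {G : Type*} [Group G] [Finite G] {z : G} {Q : Subgroup G} {ψ : ℕ → G} (M : Model z Q ψ)
include M

theorem ev_code (φ : G) : ∀ w : List ℕ, (∀ i ∈ w, i < 4) → foldC w < 1152 ∧ ev (genG ψ φ) w = ψ (foldC w) := by
  intro w
  induction w using List.reverseRecOn with
  | nil => intro _; exact ⟨by decide, by simp [ev, foldC, M.one]⟩
  | append_singleton w i ih =>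
    intro hw
    obtain ⟨h₁, h₂⟩ := ih fun j hj => hw j (List.mem_append_left _ hj)
    have hi := hw i (by simp)
    obtain ⟨li, -⟩ := gCodes_facts i hi
    have e : foldC (w ++ [i]) = mC (foldC w) (gCodes.getD i 0) := by simp [foldC]
    refine ⟨e ▸ mC_lt h₁ li, ?_⟩
    rw [ev_append, e, h₂, show ev (genG ψ φ) [i] = ψ (gCodes.getD i 0) by simp [ev, genG, hi], M.mul _ h₁ _ li]

theorem ev_wordOf (φ : G) {c : ℕ} (hc : c ∈ [2, 108, 147, 204, 348, 400, 404, 472, 500, 508, 600, 640, 667, 700,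
    704, 714, 800, 860, 900, 936, 1000, 1044, 1100, 1124]) : ev (genG ψ φ) (wordOf c) = ψ c := by
  obtain ⟨h₁, h₂⟩ := wordOf_spec c hc
  rw [(M.ev_code φ _ h₂).2, h₁]

variable {φ : G} (hN : Nice z ψ φ)
include hN

theorem gen_sq : ∀ x, genG ψ φ x * genG ψ φ x = 1 := by
  intro x
  by_cases h4 : x < 4
  · obtain ⟨l, e⟩ := gCodes_facts x h4
    rw [genG, if_pos h4, M.mul _ l _ l, e, M.one]
  · rw [genG, if_neg h4]
    split_ifs
    · exact hN.sq
    · exact one_mul 1

theorem ev_rev (w : List ℕ) : ev (genG ψ φ) w.reverse = (ev (genG ψ φ) w)⁻¹ := by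
  induction w with
  | nil => simp [ev]
  | cons a w ih =>
    rw [List.reverse_cons, ev_append, ih, ev_cons (genG ψ φ) a w, mul_inv_rev,
      show ev (genG ψ φ) [a] = genG ψ φ a by simp [ev], inv_eq_of_mul_eq_one_right (M.gen_sq hN a)]

theorem phi_inv : φ⁻¹ = φ := inv_eq_of_mul_eq_one_right hN.sq

theorem phi_img {c : ℕ} (hc : c ∈ mList) : φ * ψ c * φ = ψ (imgM tGens c) := by
  have h := (M.conj_img (fun i hi => ⟨nice_img.1 i hi, hN.gens i hi⟩) hc).2
  rwa [M.phi_inv hN] at h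

theorem genG_four : genG ψ φ 4 = φ := by simp [genG]

theorem base_rels : ∀ w ∈ baseRels, ev (genG ψ φ) w = 1 := by
  intro w hw
  rcases List.mem_append.1 hw with hw | hw
  · obtain ⟨h₁, h₂⟩ := centRels_spec w hw
    rw [(M.ev_code φ w h₂).2, h₁, M.one]
  have e4 : ev (genG ψ φ) [4] = φ := by simp [ev, genG]
  have conj : ∀ {c d : ℕ} {u v : List ℕ}, c ∈ mList → imgM tGens c = d → ev (genG ψ φ) u = ψ c →
      ev (genG ψ φ) v = ψ d → ev (genG ψ φ) ([4] ++ u ++ [4] ++ v.reverse) = 1 := by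
    intro c d u v hc he hu hv
    rw [ev_append, ev_append, ev_append, M.ev_rev hN, e4, hu, hv, M.phi_img hN hc, he, mul_inv_cancel]
  obtain ⟨-, i202, i251, i2, i147, -⟩ := nice_img
  simp only [exchRels, List.mem_cons, List.not_mem_nil, or_false] at hw
  rcases hw with rfl | rfl | rfl | rfl | rfl
  · exact conj (u := [0]) (v := [0]) (by decide) i202 (by simp [ev, genG, gCodes]) (by simp [ev, genG, gCodes])
  · exact conj (u := [1]) (v := [1]) (by decide) i251 (by simp [ev, genG, gCodes]) (by simp [ev, genG, gCodes])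
  · exact conj (by decide) i2 (M.ev_wordOf φ (by simp)) (M.ev_wordOf φ (by simp))
  · exact conj (by decide) i147 (M.ev_wordOf φ (by simp)) (M.ev_wordOf φ (by simp))
  · have hf : φ * ψ 148 * φ⁻¹ = ψ 148 := by
      obtain ⟨-, -, -, -, -, -, -, -, -, -, -, -, -, hzu, huz, -⟩ := gen_facts
      calc φ * ψ 148 * φ⁻¹ = φ * z * φ⁻¹ * (φ * ψ uC * φ⁻¹) := by
            rw [← hzu, ← M.mul 48 (by norm_num) 100 (by norm_num), M.at_z]; group
        _ = _ := by rw [hN.at_z, hN.at_u, ← M.at_z, M.mul 100 (by norm_num) 48 (by norm_num), huz]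
    obtain ⟨m, hm, hc, e⟩ := M.cube_code (fun i hi => ⟨nice_img.1 i hi, hN.gens i hi⟩) hN.at_z hN.at_u hf
    rw [nice_cube m hm hc, M.one] at e
    simp only [ev_append, e4, M.ev_wordOf φ (c := 108) (by simp)]
    rw [e]
    group

/-- The element of order three of a side goes to an element commuting with the image of the centre. -/
theorem side_image {g : G} {u y w : ℕ} (hu : u < 1152) (hy : y < 1152) (hw : w < 1152)
    (gu : g * ψ u * g⁻¹ = z) (gz : g * z * g⁻¹ = ψ w) (cu : mC y u = mC u y) (cz : mC y 48 = mC 48 y)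
    (h3 : ψ y ^ 3 = 1) (h1 : ψ y ≠ 1) :
    ∃ t ∈ threeList, mC t w = mC w t ∧ g * ψ y * g⁻¹ = ψ t := by
  have hC : g * ψ y * g⁻¹ ∈ centralizer ({z} : Set G) := by
    refine mem_centralizer_singleton_iff.2 ?_
    rw [← gu]
    simp only [mul_assoc, inv_mul_cancel_left]
    rw [← mul_assoc (ψ y), (M.comm_iff hy hu).2 cu, mul_assoc]
  obtain ⟨t, ht, e⟩ := M.three_code hC (by rw [conj_pow, h3]; group) (fun e => h1 (conj_eq_one_iff.1 e))
  refine ⟨t, ht, (M.comm_iff (list_lt.2.1 t ht) hw).1 ?_, e.symm⟩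
  rw [e, ← gz]
  have hz : ψ y * z = z * ψ y := M.at_z ▸ (M.comm_iff hy (by norm_num)).2 cz
  calc g * ψ y * g⁻¹ * (g * z * g⁻¹) = g * (ψ y * z) * g⁻¹ := by group
    _ = g * (z * ψ y) * g⁻¹ := by rw [hz]
    _ = _ := by group

/-- A configuration in which the exchange falls into the centralizer is impossible. -/
theorem forced {C : Cert} {nE : ℕ} (hk : C.k = 5) (hsteps : C.StepsOK 0 nE) (hrows : C.RowsOK nE 1 0 1)
    (hzero : C.rowNode 0 = 0) (hsubs : C.subs = centSubs) (hrels : ∀ w ∈ C.rels, ev (genG ψ φ) w = 1) :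
    False := by
  set D := closure (genG ψ φ '' Set.Iio C.k) with hD
  let g : ℕ → D := fun x => if h : x < C.k then ⟨genG ψ φ x, subset_closure ⟨x, h, rfl⟩⟩ else 1
  have hval : ∀ x, (g x : G) = genG ψ φ x := by
    intro x
    simp only [g]
    split_ifs with h
    · rfl
    · rw [genG, if_neg (by omega), if_neg (by omega)]; rfl
  have hev : ∀ w, ((ev g w : D) : G) = ev (genG ψ φ) w := fun w => by
    show D.subtype (ev g w) = _
    rw [map_ev]
    exact ev_congr fun x _ => hval x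
  have hgen : closure (g '' Set.Iio C.k) = ⊤ := by
    refine map_injective D.subtype_injective ?_
    rw [MonoidHom.map_closure, Set.image_image, Set.image_congr' (g := genG ψ φ) (f := fun x => D.subtype (g x))
      (fun x => hval x), ← MonoidHom.range_eq_map, Subgroup.range_subtype]
  have hidx := C.index_le hsteps hrows hzero one_pos g
    (fun x => Subtype.ext (by rw [Subgroup.coe_mul, hval, M.gen_sq hN]; rfl))
    (Subtype.ext (by rw [hval, hk]; simp [genG]))
    hgen (fun w hw => Subtype.ext ((hev w).trans (hrels w hw))) ((centralizer ({z} : Set G)).subgroupOf D)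
    (fun w hw => by
      rw [mem_subgroupOf, hev]
      have hl : ∀ i ∈ w, i < 4 := by
        rw [hsubs] at hw
        exact (by decide +kernel : ∀ v ∈ centSubs, ∀ i ∈ v, i < 4) w hw
      obtain ⟨l, e⟩ := M.ev_code φ w hl
      rw [e]
      exact M.mem _ l)
  have htop : (centralizer ({z} : Set G)).subgroupOf D = ⊤ := Subgroup.index_eq_one.1 (by omega)
  have hφ : φ ∈ centralizer ({z} : Set G) := by
    have h := htop ▸ mem_top (g 4)
    rw [mem_subgroupOf, hval, M.genG_four hN] at h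
    exact h
  have h := hN.at_z
  rw [mem_centralizer_singleton_iff.1 hφ, mul_inv_cancel_right] at h
  exact absurd ((M.eq_z_iff (show uC < 1152 by norm_num)).1 h.symm) (by decide)

theorem side_false : φ * ψ 667 * φ * ψ 2 * (φ * ψ 667 * φ)⁻¹ = z ∧
    φ * ψ 667 * φ * z * (φ * ψ 667 * φ)⁻¹ = ψ 2 := by
  obtain ⟨e₁, e₂, e₃, -⟩ := side_codes
  have l : (667 : ℕ) < 1152 := by norm_num
  have hi : (ψ 667)⁻¹ = ψ 667 := inv_eq_of_mul_eq_one_right (by rw [M.mul _ l _ l, e₃, M.one])
  have hz := hN.at_z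
  have hu := hN.at_u
  rw [M.phi_inv hN] at hz hu
  constructor
  · calc φ * ψ 667 * φ * ψ 2 * (φ * ψ 667 * φ)⁻¹ = φ * (ψ 667 * (φ * ψ 2 * φ) * (ψ 667)⁻¹) * φ := by
          simp only [mul_inv_rev, M.phi_inv hN, mul_assoc]
      _ = φ * ψ uC * φ := by
          rw [M.phi_img hN (by decide), nice_img.2.2.2.1, hi, M.mul _ l _ (by norm_num),
            M.mul _ (mC_lt l (by norm_num)) _ l, e₁]
      _ = z := hu
  · calc φ * ψ 667 * φ * z * (φ * ψ 667 * φ)⁻¹ = φ * (ψ 667 * (φ * z * φ) * (ψ 667)⁻¹) * φ := by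
          simp only [mul_inv_rev, M.phi_inv hN, mul_assoc]
      _ = φ * ψ 348 * φ := by rw [hz, hi, M.mul _ l _ (by norm_num), M.mul _ (mC_lt l (by norm_num)) _ l, e₂]
      _ = ψ 2 := by rw [M.phi_img hN (by decide), nice_img.2.2.2.2.2.1]

theorem side_true : φ * ψ 714 * φ * ψ 714 * ψ 303 * (φ * ψ 714 * φ * ψ 714)⁻¹ = z ∧
    φ * ψ 714 * φ * ψ 714 * z * (φ * ψ 714 * φ * ψ 714)⁻¹ = ψ 7 := by
  obtain ⟨-, -, -, e₁, e₂, e₃, e₄, -⟩ := side_codes
  obtain ⟨-, -, -, -, -, -, i7, i252⟩ := nice_img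
  have l : (714 : ℕ) < 1152 := by norm_num
  have hi : (ψ 714)⁻¹ = ψ 714 := inv_eq_of_mul_eq_one_right (by rw [M.mul _ l _ l, e₄, M.one])
  have hz := hN.at_z
  have hu := hN.at_u
  rw [M.phi_inv hN] at hz hu
  constructor
  · calc φ * ψ 714 * φ * ψ 714 * ψ 303 * (φ * ψ 714 * φ * ψ 714)⁻¹ =
          φ * (ψ 714 * (φ * (ψ 714 * ψ 303 * (ψ 714)⁻¹) * φ) * (ψ 714)⁻¹) * φ := by
          simp only [mul_inv_rev, M.phi_inv hN, mul_assoc]
      _ = φ * ψ uC * φ := by
          rw [hi, M.mul _ l _ (by norm_num), M.mul _ (mC_lt l (by norm_num)) _ l, e₁, M.phi_img hN (by decide), i7,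
            M.mul _ l _ (by norm_num), M.mul _ (mC_lt l (by norm_num)) _ l, e₂]
      _ = z := hu
  · calc φ * ψ 714 * φ * ψ 714 * z * (φ * ψ 714 * φ * ψ 714)⁻¹ =
          φ * (ψ 714 * (φ * (ψ 714 * z * (ψ 714)⁻¹) * φ) * (ψ 714)⁻¹) * φ := by
          simp only [mul_inv_rev, M.phi_inv hN, mul_assoc]
      _ = φ * ψ 252 * φ := by
          rw [M.comm_z l, mul_inv_cancel_right, hz, hi, M.mul _ l _ (by norm_num),
            M.mul _ (mC_lt l (by norm_num)) _ l, e₃]
      _ = ψ 7 := by rw [M.phi_img hN (by decide), i252]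

theorem ev_side : ev (genG ψ φ) (sideWord false) = φ * ψ 667 * φ ∧
    ev (genG ψ φ) (sideWord true) = φ * ψ 714 * φ * ψ 714 := by
  constructor <;>
    simp only [sideWord, ev_append, show ev (genG ψ φ) [4] = φ by simp [ev, genG], M.ev_wordOf φ (c := 667) (by simp),
      M.ev_wordOf φ (c := 714) (by simp)]

theorem side_rel_false : ev (genG ψ φ) (sideRel false 500) = 1 := by
  have ly : (400 : ℕ) < 1152 := by norm_num
  obtain ⟨-, -, -, -, -, -, -, c₁, c₂, -⟩ := side_codes
  obtain ⟨hP, hA⟩ := M.yC_memA false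
  obtain ⟨t, ht, htw, et⟩ := M.side_image hN (show 2 < 1152 by norm_num) ly (show 2 < 1152 by norm_num)
    (M.side_false hN).1 (M.side_false hN).2 c₁ c₂ (M.grpP_cube hP) (M.y_ne false)
  have key : ∀ t' ∈ [400, 500, 600, 700, 800, 900, 1000, 1100], t = t' →
      ev (genG ψ φ) (sideRel false t') = 1 := by
    intro t' ht' e
    subst e
    simp only [sideRel, Bool.false_eq_true, if_false, ev_append, M.ev_rev hN, (M.ev_side hN).1]
    rw [M.ev_wordOf φ (c := 400) (by simp), M.ev_wordOf φ (by fin_cases ht' <;> simp), et, mul_inv_cancel]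
  have hb : ∀ {r : List ℕ}, ev (genG ψ φ) r = 1 → ∀ w ∈ baseRels ++ [r], ev (genG ψ φ) w = 1 := fun hr w hw => by
    rcases List.mem_append.1 hw with h | h
    · exact M.base_rels hN w h
    · rw [List.mem_singleton.1 h]; exact hr
  have hmem := side_choices.1 t ht htw
  simp only [List.mem_cons, List.not_mem_nil, or_false] at hmem
  rcases hmem with rfl | rfl | rfl | rfl | rfl | rfl | rfl | rfl
  · exact (M.forced hN rfl CertA0.steps_ok CertA0.rows_ok CertA0.row_zero rfl (hb (key _ (by simp) rfl))).elim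
  · exact key _ (by simp) rfl
  · exact (M.forced hN rfl CertA1.steps_ok CertA1.rows_ok CertA1.row_zero rfl (hb (key _ (by simp) rfl))).elim
  · exact (M.forced hN rfl CertA2.steps_ok CertA2.rows_ok CertA2.row_zero rfl (hb (key _ (by simp) rfl))).elim
  · exact (M.forced hN rfl CertA3.steps_ok CertA3.rows_ok CertA3.row_zero rfl (hb (key _ (by simp) rfl))).elim
  · exact (M.forced hN rfl CertA4.steps_ok CertA4.rows_ok CertA4.row_zero rfl (hb (key _ (by simp) rfl))).elim
  · exact (M.forced hN rfl CertA5.steps_ok CertA5.rows_ok CertA5.row_zero rfl (hb (key _ (by simp) rfl))).elim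
  · exact (M.forced hN rfl CertA6.steps_ok CertA6.rows_ok CertA6.row_zero rfl (hb (key _ (by simp) rfl))).elim

theorem side_rel_true : ev (genG ψ φ) (sideRel true 936) = 1 := by
  have ly : (404 : ℕ) < 1152 := by norm_num
  obtain ⟨-, -, -, -, -, -, -, -, -, c₁, c₂⟩ := side_codes
  obtain ⟨hP, hA⟩ := M.yC_memA true
  obtain ⟨t, ht, htw, et⟩ := M.side_image hN (show 303 < 1152 by norm_num) ly (show 7 < 1152 by norm_num)
    (M.side_true hN).1 (M.side_true hN).2 c₁ c₂ (M.grpP_cube hP) (M.y_ne true)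
  have key : ∀ t' ∈ [472, 508, 640, 704, 860, 936, 1044, 1124], t = t' →
      ev (genG ψ φ) (sideRel true t') = 1 := by
    intro t' ht' e
    subst e
    simp only [sideRel, if_true, ev_append, M.ev_rev hN, (M.ev_side hN).2]
    rw [M.ev_wordOf φ (c := 404) (by simp), M.ev_wordOf φ (by fin_cases ht' <;> simp), et, mul_inv_cancel]
  have hb : ∀ {r : List ℕ}, ev (genG ψ φ) r = 1 → ∀ w ∈ baseRels ++ [r], ev (genG ψ φ) w = 1 := fun hr w hw => by
    rcases List.mem_append.1 hw with h | h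
    · exact M.base_rels hN w h
    · rw [List.mem_singleton.1 h]; exact hr
  have hmem := side_choices.2.1 t ht htw
  simp only [List.mem_cons, List.not_mem_nil, or_false] at hmem
  rcases hmem with rfl | rfl | rfl | rfl | rfl | rfl | rfl | rfl
  · exact (M.forced hN rfl CertB0.steps_ok CertB0.rows_ok CertB0.row_zero rfl (hb (key _ (by simp) rfl))).elim
  · exact (M.forced hN rfl CertB1.steps_ok CertB1.rows_ok CertB1.row_zero rfl (hb (key _ (by simp) rfl))).elim
  · exact (M.forced hN rfl CertB2.steps_ok CertB2.rows_ok CertB2.row_zero rfl (hb (key _ (by simp) rfl))).elim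
  · exact (M.forced hN rfl CertB3.steps_ok CertB3.rows_ok CertB3.row_zero rfl (hb (key _ (by simp) rfl))).elim
  · exact (M.forced hN rfl CertB4.steps_ok CertB4.rows_ok CertB4.row_zero rfl (hb (key _ (by simp) rfl))).elim
  · exact key _ (by simp) rfl
  · exact (M.forced hN rfl CertB5.steps_ok CertB5.rows_ok CertB5.row_zero rfl (hb (key _ (by simp) rfl))).elim
  · exact (M.forced hN rfl CertB6.steps_ok CertB6.rows_ok CertB6.row_zero rfl (hb (key _ (by simp) rfl))).elim

theorem fix_rel : ev (genG ψ φ) (fixWord ++ wordOf 404 ++ fixWord.reverse ++ (wordOf 404).reverse) = 1 := by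
  obtain ⟨g2, gz⟩ := M.side_false hN
  set g := φ * ψ 667 * φ with hg
  have r := M.side_rel_false hN
  simp only [sideRel, Bool.false_eq_true, if_false, ev_append, M.ev_rev hN, (M.ev_side hN).1] at r
  rw [M.ev_wordOf φ (c := 400) (by simp), M.ev_wordOf φ (c := 500) (by simp), mul_inv_eq_one, ← hg] at r
  obtain ⟨s, hs, hsz, hs1⟩ := M.side_exists_fix (b := false) (u := 2) (by simp [wC])
  obtain ⟨hsA, hs2⟩ := hs
  have hs2' := mem_centralizer_singleton_iff.1 hs2
  have hC : g * s * g⁻¹ ∈ centralizer ({z} : Set G) := by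
    refine mem_centralizer_singleton_iff.2 ?_
    rw [← g2]
    calc g * s * g⁻¹ * (g * ψ 2 * g⁻¹) = g * (s * ψ 2) * g⁻¹ := by group
      _ = g * (ψ 2 * s) * g⁻¹ := by rw [hs2']
      _ = _ := by group
  obtain ⟨p, hp, ep⟩ := M.three_code hC (by rw [conj_pow, M.grpA_cube hsA]; group)
    (fun e => hs1 (conj_eq_one_iff.1 e))
  have lp := list_lt.2.1 p hp
  have h400 := M.grpP_comm_grpA (M.yC_memA false).1 hsA
  have hp500 : mC p 500 = mC 500 p := (M.comm_iff lp (by norm_num)).1 (by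
    rw [ep, ← r]
    calc g * s * g⁻¹ * (g * ψ 400 * g⁻¹) = g * (s * ψ 400) * g⁻¹ := by group
      _ = g * (ψ 400 * s) * g⁻¹ := by rw [show ψ 400 * s = s * ψ 400 from h400]
      _ = _ := by group)
  have hp2 : mC (mC (mC 2 p) 2) p = 0 := by
    have l2 : (2 : ℕ) < 1152 := by norm_num
    refine (M.eq_one_iff (mC_lt (mC_lt (mC_lt l2 lp) l2) lp)).1 ?_
    rw [← M.mul _ (mC_lt (mC_lt l2 lp) l2) _ lp, ← M.mul _ (mC_lt l2 lp) _ l2, ← M.mul _ l2 _ lp, ep, ← gz]
    calc g * z * g⁻¹ * (g * s * g⁻¹) * (g * z * g⁻¹) * (g * s * g⁻¹)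
        = g * (z * s * z * s) * g⁻¹ := by group
      _ = 1 := by rw [hsz]; group
  have hh : g⁻¹ * ψ 404 * g ∈ M.grpA := by
    rcases side_choices.2.2 p hp hp500 hp2 with rfl | h
    · rw [ep, show g⁻¹ * (g * s * g⁻¹) * g = s by group]
      exact hsA
    · have e : ψ 404 = (g * s * g⁻¹)⁻¹ := by
        rw [← ep]
        exact eq_inv_of_mul_eq_one_right (by rw [M.mul _ lp _ (by norm_num), h, M.one])
      rw [e, show g⁻¹ * (g * s * g⁻¹)⁻¹ * g = s⁻¹ by group]
      exact inv_mem hsA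
  have hcomm : ψ 404 * (g⁻¹ * ψ 404 * g) = g⁻¹ * ψ 404 * g * ψ 404 := M.grpP_comm_grpA (M.yC_memA true).1 hh
  simp only [fixWord, ev_append, M.ev_rev hN, (M.ev_side hN).1, M.ev_wordOf φ (c := 404) (by simp), ← hg]
  rw [mul_inv_eq_one, mul_inv_eq_iff_eq_mul]
  exact hcomm.symm

/-- All relators hold. -/
theorem full_rels : ∀ w ∈ fullRels, ev (genG ψ φ) w = 1 := by
  intro w hw
  rcases List.mem_append.1 hw with h | h
  · exact M.base_rels hN w h
  simp only [List.mem_cons, List.not_mem_nil, or_false] at h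
  rcases h with rfl | rfl | rfl
  exacts [M.side_rel_false hN, M.fix_rel hN, M.side_rel_true hN]

end Model

end

end CfsgLib.Spor.UFourType
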