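import Cfsg.Agent.Lib.Spor.TC.Check

/-!
# Relators for groups of `U₄(3)` type

Letters `0, …, 3` are involutions generating the centralizer, `4` is the exchange.
-/

set_option autoImplicit false

namespace CfsgLib.Spor.UFourType

/-- Words for some elements of the centralizer. -/
def wordOf : ℕ → List ℕ
  | 2 => [3, 0, 3]
  | 108 => [2, 3, 2, 3]
  | 147 => [2, 1, 2]
  | 204 => [0, 1, 0, 2, 1, 2]
  | 348 => [1, 0, 1, 3, 0, 3]
  | 400 => [0, 1, 2, 3, 2, 3, 0, 3]
  | 404 => [2, 3, 0, 3]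
  | 472 => [1, 2, 1, 0]
  | 500 => [0, 1, 0, 3, 2, 1, 2, 3]
  | 508 => [0, 1, 2, 1]
  | 600 => [2, 3, 2, 1]
  | 640 => [0, 2, 0, 1, 0, 1]
  | 667 => [3]
  | 700 => [0, 3, 2, 1, 2, 3, 0, 1]
  | 704 => [2, 1, 0, 1]
  | 714 => [3, 2, 3]
  | 800 => [0, 2, 3, 2, 1, 0]
  | 860 => [2, 0, 2, 0]
  | 900 => [0, 1, 2, 3, 2, 0]
  | 936 => [0, 2, 0, 2]
  | 1000 => [0, 1, 3, 0, 2, 1, 2, 3]
  | 1044 => [1, 0, 1, 2]
  | 1100 => [1, 2, 3, 2]
  | 1124 => [0, 1, 0, 1, 2, 0]
  | _ => []

/-- Relators of the centralizer. -/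
def centRels : List (List ℕ) :=
  [[0, 1, 0, 1, 0, 1, 0, 1],
   [0, 1, 3, 1, 0, 3, 1, 3],
   [0, 2, 0, 1, 2, 0, 2, 1],
   [0, 2, 0, 3, 2, 0, 2, 3],
   [0, 1, 2, 3, 0, 1, 2, 3, 0, 1, 2, 3]]

/-- The relators of the exchange. -/
def exchRels : List (List ℕ) :=
  [[4, 0, 4, 0], [4, 1, 4, 1], [4] ++ wordOf 2 ++ [4] ++ (wordOf 348).reverse,
   [4] ++ wordOf 147 ++ [4] ++ (wordOf 204).reverse,
   [4] ++ wordOf 108 ++ [4] ++ wordOf 108 ++ [4] ++ wordOf 108]

/-- The element carrying the first side to the centre. -/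
def sideWord : Bool → List ℕ
  | false => [4] ++ wordOf 667 ++ [4]
  | true => [4] ++ wordOf 714 ++ [4] ++ wordOf 714

/-- The image of the element of order three of a side. -/
def sideRel (b : Bool) (t : ℕ) : List ℕ :=
  sideWord b ++ wordOf (if b then 404 else 400) ++ (sideWord b).reverse ++ (wordOf t).reverse

/-- The element of order three commuting with those of the sides. -/
def fixWord : List ℕ := (sideWord false).reverse ++ wordOf 404 ++ sideWord false

/-- The relators satisfied whatever the image. -/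
def baseRels : List (List ℕ) := centRels ++ exchRels

/-- The relators defining the group. -/
def fullRels : List (List ℕ) :=
  baseRels ++ [sideRel false 500, fixWord ++ wordOf 404 ++ fixWord.reverse ++ (wordOf 404).reverse, sideRel true 936]

/-- The generators of the subgroup. -/
def centSubs : List (List ℕ) := [[0], [1], [2], [3]]

end CfsgLib.Spor.UFourType
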