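import Cfsg.Agent.Lib.Spor.UFourType.Main

/-!
# The model of the centralizer from the hypotheses of `U₄(3)` type
-/

set_option autoImplicit false

namespace CfsgLib.Spor.UFourType

open Cfsg

/-- The hypotheses give the coordinates of the centralizer. -/
theorem exists_model_of_type {G : Type*} [Group G] [Finite G] (z : G) (hz : orderOf z = 2) (H₁ H₂ : Subgroup (Subgroup.centralizer ({z} : Set G))) (hK : H₁ ⊔ H₂ = Subgroup.closure {x : Subgroup.centralizer ({z} : Set G) | Odd (orderOf x)}) (hn₁ : (H₁.subgroupOf (H₁ ⊔ H₂)).Normal) (hn₂ : (H₂.subgroupOf (H₁ ⊔ H₂)).Normal) (e₁ : H₁ ≃* Matrix.SpecialLinearGroup (Fin 2) (ZMod 3)) (e₂ : H₂ ≃* Matrix.SpecialLinearGroup (Fin 2) (ZMod 3)) (hmeet : (H₁ ⊓ H₂).map (Subgroup.subtype (Subgroup.centralizer ({z} : Set G))) = Subgroup.zpowers z) (Q : Subgroup (Subgroup.centralizer ({z} : Set G))) [Q.Normal] (hQ : Q = (Cfsg.pCore 2 ↥(H₁ ⊔ H₂)).map (Subgroup.subtype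 (H₁ ⊔ H₂))) (hF : Cfsg.generalizedFittingSubgroup (Subgroup.centralizer ({z} : Set G)) = Q) (hnwc : ∃ g : G, (∃ hq : g * z * g⁻¹ ∈ Subgroup.centralizer ({z} : Set G), (⟨g * z * g⁻¹, hq⟩ : Subgroup.centralizer ({z} : Set G)) ∈ Q) ∧ g * z * g⁻¹ ≠ z) (hH : Nat.card ↥(Subgroup.centralizer ({z} : Set G)) = 2 ^ 7 * 3 ^ 2) (hQQg : ∀ g : G, g * z * g⁻¹ ∈ Q.map (Subgroup.subtype (Subgroup.centralizer ({z} : Set G))) → g * z * g⁻¹ ≠ z → Nat.card ↥((Q.map (Subgroup.subtype (Subgroup.centralizer ({z} : Set G)))) ⊓ (Q.map (Subgroup.subtype (Subgroup.centralizer ({z} : Set G)))).map (MulAut.conj g).toMonoidHom) = 4) :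
    ∃ ψ : ℕ → G, Model z (Q.map (Subgroup.subtype (Subgroup.centralizer ({z} : Set G)))) ψ := by
  classical
  have hz2 : z * z = 1 := by rw [← pow_two, ← hz, pow_orderOf_eq_one]
  have hz1 : z ≠ 1 := fun e => by rw [e, orderOf_one] at hz; norm_num at hz
  set L₁ := H₁.map (Subgroup.centralizer ({z} : Set G)).subtype with hL₁
  set L₂ := H₂.map (Subgroup.centralizer ({z} : Set G)).subtype with hL₂
  set QG := Q.map (Subgroup.centralizer ({z} : Set G)).subtype with hQG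
  have hinj : Function.Injective (Subgroup.centralizer ({z} : Set G)).subtype := (Subgroup.centralizer ({z} : Set G)).subtype_injective
  have hsup : L₁ ⊔ L₂ = (H₁ ⊔ H₂).map (Subgroup.centralizer ({z} : Set G)).subtype := (Subgroup.map_sup _ _ _).symm
  have hinf : L₁ ⊓ L₂ = Subgroup.zpowers z := by
    rw [hL₁, hL₂, ← Subgroup.map_inf _ _ _ hinj]; exact hmeet
  have conj₁ : ∀ k ∈ H₁ ⊔ H₂, ∀ a ∈ H₁, k * a * k⁻¹ ∈ H₁ := fun k hk a ha =>
    hn₁.conj_mem ⟨a, Subgroup.mem_sup_left ha⟩ ha ⟨k, hk⟩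
  have conj₂ : ∀ k ∈ H₁ ⊔ H₂, ∀ a ∈ H₂, k * a * k⁻¹ ∈ H₂ := fun k hk a ha =>
    hn₂.conj_mem ⟨a, Subgroup.mem_sup_right ha⟩ ha ⟨k, hk⟩
  have f₁ := (H₁.equivMapOfInjective (Subgroup.centralizer ({z} : Set G)).subtype hinj).symm.trans e₁
  have f₂ := (H₂.equivMapOfInjective (Subgroup.centralizer ({z} : Set G)).subtype hinj).symm.trans e₂
  have hleC : ∀ H : Subgroup (Subgroup.centralizer ({z} : Set G)), H.map (Subgroup.centralizer ({z} : Set G)).subtype ≤ (Subgroup.centralizer ({z} : Set G)) := fun H => by rintro _ ⟨x, -, rfl⟩; exact x.2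
  have hcomm : ∀ a ∈ L₁, ∀ b ∈ L₂, a * b = b * a := by
    refine CfsgLib.Spor.UFourType.sides_commute L₁ L₂ f₁ ?_ ?_ hz2
      (fun a ha => Subgroup.mem_centralizer_singleton_iff.1 (hleC H₁ ha)) hinf
    · rintro _ ⟨b, hb, rfl⟩ _ ⟨a, ha, rfl⟩
      exact ⟨_, conj₁ b (Subgroup.mem_sup_right hb) a ha, by simp⟩
    · rintro _ ⟨a, ha, rfl⟩ _ ⟨b, hb, rfl⟩
      exact ⟨_, conj₂ a (Subgroup.mem_sup_left ha) b hb, by simp⟩
  have hcomm' : ∀ a ∈ H₁, ∀ b ∈ H₂, a * b = b * a := fun a ha b hb =>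
    hinj (by simpa using hcomm _ ⟨a, ha, rfl⟩ _ ⟨b, hb, rfl⟩)
  have hzC : z ∈ (Subgroup.centralizer ({z} : Set G)) := Subgroup.mem_centralizer_singleton_iff.2 rfl
  have hmeetC : H₁ ⊓ H₂ = Subgroup.zpowers (⟨z, hzC⟩ : (Subgroup.centralizer ({z} : Set G))) := by
    refine Subgroup.map_injective hinj ?_
    rw [hmeet, MonoidHom.map_zpowers]
    rfl
  have hmemQ : ∀ q : (Subgroup.centralizer ({z} : Set G)), q ∈ Q ↔ q ∈ H₁ ⊔ H₂ ∧ (q : G) ^ 4 = 1 := by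
    intro q
    have key := CfsgLib.Spor.UFourType.core_iff (z := (⟨z, hzC⟩ : (Subgroup.centralizer ({z} : Set G)))) H₁ H₂ e₁ e₂ (Subtype.ext hz2)
      (fun e => hz1 (congrArg Subtype.val e)) hcomm' hmeetC
    rw [hQ]
    constructor
    · rintro ⟨k, hk, rfl⟩
      exact ⟨k.2, (congrArg Subtype.val ((key k).1 hk) :)⟩
    · rintro ⟨hq, h4⟩
      exact ⟨⟨q, hq⟩, (key ⟨q, hq⟩).2 (Subtype.ext (by simpa using h4)), rfl⟩
  have hcard : Nat.card (Subgroup.centralizer ({z} : Set G)) = 1152 := by rw [hH]; norm_num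
  have H : CfsgLib.Spor.UFourType.Hyp z QG L₁ L₂ := by
    refine ⟨hz, hleC H₁, hleC H₂, ⟨f₁⟩, ⟨f₂⟩, hcomm, hinf, fun c hc ho => ?_, fun c hc k hk => ?_, fun g => ?_,
      fun c hc h => ?_, hcard, ?_, hQQg⟩
    · rw [hsup, hK]
      exact ⟨⟨c, hc⟩, Subgroup.subset_closure (by
        show Odd (orderOf (⟨c, hc⟩ : (Subgroup.centralizer ({z} : Set G))))
        rw [← Subgroup.orderOf_coe]; exact ho), rfl⟩
    · rw [hsup] at hk ⊢
      obtain ⟨k, hk, rfl⟩ := hk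
      refine ⟨⟨c, hc⟩ * k * ⟨c, hc⟩⁻¹, ?_, rfl⟩
      rw [hK] at hk ⊢
      revert hk
      suffices hle : Subgroup.closure {x : (Subgroup.centralizer ({z} : Set G)) | Odd (orderOf x)} ≤
          (Subgroup.closure {x : (Subgroup.centralizer ({z} : Set G)) | Odd (orderOf x)}).comap (MulAut.conj (⟨c, hc⟩ : (Subgroup.centralizer ({z} : Set G)))).toMonoidHom from
        fun hk => hle hk
      rw [Subgroup.closure_le]
      intro x hx
      refine Subgroup.subset_closure ?_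
      show Odd (orderOf (MulAut.conj (⟨c, hc⟩ : (Subgroup.centralizer ({z} : Set G))) x))
      rw [MulEquiv.orderOf_eq]
      exact hx
    · constructor
      · rintro ⟨q, hq, rfl⟩
        obtain ⟨h1, h2⟩ := (hmemQ q).1 hq
        exact ⟨hsup ▸ ⟨q, h1, rfl⟩, h2⟩
      · rintro ⟨h1, h2⟩
        rw [hsup] at h1
        obtain ⟨q, hq, rfl⟩ := h1
        exact ⟨q, (hmemQ q).2 ⟨hq, h2⟩, rfl⟩
    · refine ⟨⟨c, hc⟩, ?_, rfl⟩
      rw [← hF]
      refine CfsgLib.Coprime.centralizer_generalizedFitting_le (Subgroup.mem_centralizer_iff.2 fun q hq => ?_)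
      rw [hF] at hq
      exact Subtype.ext (h _ ⟨q, hq, rfl⟩).symm
    · obtain ⟨g, ⟨hq, hgQ⟩, hne⟩ := hnwc
      exact ⟨g, ⟨_, hgQ, rfl⟩, hne⟩
  obtain ⟨g₁, g₂, hS⟩ := CfsgLib.Spor.UFourType.exists_coord H
  obtain ⟨k₁, k₂, x, y, p, q, F⟩ := hS.exists_frame
  have M := CfsgLib.Spor.UFourType.Frame.model F
  exact ⟨_, M⟩

end CfsgLib.Spor.UFourType
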